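import Mathlib.NumberTheory.Padics.RingHoms
import Mathlib.LinearAlgebra.FreeModule.PID
import Mathlib.LinearAlgebra.Dimension.RankNullity
import Mathlib.GroupTheory.Index
import Mathlib.LinearAlgebra.Dimension.Localization
import Mathlib.Algebra.Module.Torsion.Basic

/-!
# Torsion of coinvariants of an automorphism of prime order
-/

set_option autoImplicit false

universe u

open Submodule

namespace Groth.Agent.SSRedLib

variable (ℓ : ℕ) [Fact ℓ.Prime] {M : Type u} [AddCommGroup M] [Module ℤ_[ℓ] M] [Module.Free ℤ_[ℓ] M]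
  [Module.Finite ℤ_[ℓ] M]

theorem index_smul (L : Submodule ℤ_[ℓ] M) :
    (AddMonoidHom.range (DistribMulAction.toAddMonoidHom L (ℓ : ℤ_[ℓ]))).index = ℓ ^ Module.finrank ℤ_[ℓ] L := by
  classical
  let b := Module.finBasis ℤ_[ℓ] L
  let φ : L →+ (Fin (Module.finrank ℤ_[ℓ] L) → ZMod ℓ) :=
    { toFun := fun x i => PadicInt.toZMod (b.repr x i)
      map_zero' := by ext; simp
      map_add' := fun x y => by ext; simp }
  have hsurj : Function.Surjective φ := fun z => by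
    refine ⟨∑ i, ((z i).val : ℤ_[ℓ]) • b i, funext fun i => ?_⟩
    show PadicInt.toZMod (b.repr _ i) = _
    rw [b.repr_sum_self]
    simp
  have hker : φ.ker = AddMonoidHom.range (DistribMulAction.toAddMonoidHom L (ℓ : ℤ_[ℓ])) := by
    ext x
    rw [AddMonoidHom.mem_ker, AddMonoidHom.mem_range]
    constructor
    · intro h
      have h1 : ∀ i, ∃ a, b.repr x i = a * (ℓ : ℤ_[ℓ]) := fun i => by
        have : b.repr x i ∈ RingHom.ker (PadicInt.toZMod : ℤ_[ℓ] →+* ZMod ℓ) := congrFun h i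
        rw [PadicInt.ker_toZMod, PadicInt.maximalIdeal_eq_span_p, Ideal.mem_span_singleton'] at this
        obtain ⟨a, ha⟩ := this
        exact ⟨a, ha.symm⟩
      choose a ha using h1
      refine ⟨∑ i, a i • b i, ?_⟩
      show (ℓ : ℤ_[ℓ]) • _ = x
      conv_rhs => rw [← b.sum_repr x]
      rw [Finset.smul_sum]
      exact Finset.sum_congr rfl fun i _ => by rw [ha, smul_smul, mul_comm]
    · rintro ⟨y, rfl⟩
      funext i
      show PadicInt.toZMod (b.repr ((ℓ : ℤ_[ℓ]) • y) i) = 0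
      simp
  rw [← hker, AddSubgroup.index_ker, AddMonoidHom.range_eq_top.mpr hsurj, AddSubgroup.card_top,
    Nat.card_eq_fintype_card, Fintype.card_fun, ZMod.card, Fintype.card_fin]

omit [Module.Free ℤ_[ℓ] M] [Module.Finite ℤ_[ℓ] M] in
theorem smul_cancel [Module.IsTorsionFree ℤ_[ℓ] M] {x : M} (h : (ℓ : ℤ_[ℓ]) • x = 0) : x = 0 :=
  (smul_eq_zero.mp h).resolve_left (Nat.cast_ne_zero.mpr (Fact.out : ℓ.Prime).ne_zero)

theorem torsion_coinvariants (A f : Module.End ℤ_[ℓ] M) (hA : A ^ ℓ = 1) (hf : f = A - 1)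
    (hcase : (ℓ = 2 ∧ ∃ B : Module.End ℤ_[ℓ] M, f = (2 : ℤ_[ℓ]) • B) ∨
      (ℓ = 2 ∧ ∃ B : Module.End ℤ_[ℓ] M, f ^ 2 = (4 : ℤ_[ℓ]) • B) ∨
      (ℓ = 3 ∧ ∃ B : Module.End ℤ_[ℓ] M, f ^ 2 = (3 : ℤ_[ℓ]) • B))
    (c : ℕ) (hc : c = Module.finrank ℤ_[ℓ] M - Module.finrank ℤ_[ℓ] (LinearMap.ker f)) :
    (∀ x ∈ Submodule.torsion ℤ_[ℓ] (M ⧸ LinearMap.range f), (ℓ : ℤ_[ℓ]) • x = 0) ∧
      ∃ r : ℕ, r * (ℓ - 1) = c ∧
        Nat.card (Submodule.torsion ℤ_[ℓ] (M ⧸ LinearMap.range f)) = ℓ ^ r := by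
  classical
  let Φ : Module.End ℤ_[ℓ] M := ∑ i ∈ Finset.range ℓ, A ^ i
  have hΦf : Φ * f = 0 := by rw [hf, geom_sum_mul, hA, sub_self]
  have hfΦ : f * Φ = 0 := by rw [hf, mul_geom_sum, hA, sub_self]
  have hgeom : ∃ P : Module.End ℤ_[ℓ] M, (ℓ : Module.End ℤ_[ℓ] M) - Φ = f * P := by
    refine ⟨-∑ i ∈ Finset.range ℓ, ∑ j ∈ Finset.range i, A ^ j, ?_⟩
    rw [mul_neg, Finset.mul_sum, hf]
    simp only [mul_geom_sum, Finset.sum_sub_distrib, Finset.sum_const, Finset.card_range, nsmul_eq_mul, mul_one]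
    abel
  obtain ⟨P, hP⟩ := hgeom
  let L := LinearMap.ker Φ
  have hrange : ∀ m, f m ∈ L := fun m => LinearMap.congr_fun hΦf m
  have hmul : ∀ m, m ∈ L → (ℓ : ℤ_[ℓ]) • m = f (P m) := by
    intro m hm
    have h1 := LinearMap.congr_fun hP m
    rw [LinearMap.sub_apply, show Φ m = 0 from hm, sub_zero, Module.End.natCast_apply, Module.End.mul_apply,
      ← Nat.cast_smul_eq_nsmul ℤ_[ℓ]] at h1
    exact h1
  have hfix : ∀ x, f x = 0 → Φ x = (ℓ : ℤ_[ℓ]) • x := by
    intro x hx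
    have hAx : A x = x := by
      rw [hf, LinearMap.sub_apply, sub_eq_zero] at hx
      exact hx
    have : ∀ i : ℕ, (A ^ i) x = x := fun i => by
      induction i with
      | zero => rfl
      | succ i ih => rw [pow_succ, Module.End.mul_apply, hAx, ih]
    simp [Φ, LinearMap.sum_apply, this, Nat.cast_smul_eq_nsmul]
  have hzero : ∀ x ∈ L, f x = 0 → x = 0 := fun x hx h =>
    smul_cancel ℓ ((hfix x h).symm.trans hx)
  have hrank : Module.finrank ℤ_[ℓ] L = c := by
    have h1 := Submodule.finrank_quotient_add_finrank (LinearMap.ker Φ)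
    rw [Φ.quotKerEquivRange.finrank_eq] at h1
    have h2 : Module.finrank ℤ_[ℓ] (LinearMap.range Φ) = Module.finrank ℤ_[ℓ] (LinearMap.ker f) := by
      refine le_antisymm (Submodule.finrank_mono fun x ⟨m, hm⟩ => hm ▸ LinearMap.congr_fun hfΦ m) ?_
      refine LinearMap.finrank_le_finrank_of_injective (f := ((ℓ : ℤ_[ℓ]) • (LinearMap.ker f).subtype).codRestrict _
        fun x => ⟨x, hfix x x.2⟩) fun a b hab => ?_
      have := congrArg Subtype.val hab
      replace this : (ℓ : ℤ_[ℓ]) • a.1 = (ℓ : ℤ_[ℓ]) • b.1 := this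
      exact Subtype.ext (sub_eq_zero.mp (smul_cancel ℓ (by rw [smul_sub, this, sub_self])))
    show Module.finrank ℤ_[ℓ] (LinearMap.ker Φ) = c
    omega
  have htor : ∀ x, x ∈ Submodule.torsion ℤ_[ℓ] (M ⧸ LinearMap.range f) ↔ ∃ m ∈ L, Submodule.Quotient.mk m = x := by
    intro x
    obtain ⟨m, rfl⟩ := Submodule.Quotient.mk_surjective _ x
    rw [Submodule.mem_torsion_iff]
    constructor
    · rintro ⟨a, ha⟩
      rw [Submonoid.smul_def, ← Submodule.Quotient.mk_smul, Submodule.Quotient.mk_eq_zero] at ha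
      obtain ⟨y, hy⟩ := ha
      refine ⟨m, ?_, rfl⟩
      have h1 : (a : ℤ_[ℓ]) • Φ m = 0 := by rw [← map_smul, ← hy]; exact hrange y
      exact (smul_eq_zero.mp h1).resolve_left (nonZeroDivisors.coe_ne_zero a)
    · rintro ⟨m', hm', he⟩
      refine ⟨⟨(ℓ : ℤ_[ℓ]), mem_nonZeroDivisors_of_ne_zero (Nat.cast_ne_zero.mpr (Fact.out : ℓ.Prime).ne_zero)⟩, ?_⟩
      rw [Submonoid.smul_def, ← he, ← Submodule.Quotient.mk_smul, Submodule.Quotient.mk_eq_zero]
      exact ⟨P m', (hmul m' hm').symm⟩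
  refine ⟨fun x hx => ?_, ?_⟩
  · obtain ⟨m, hm, rfl⟩ := (htor x).mp hx
    rw [← Submodule.Quotient.mk_smul, Submodule.Quotient.mk_eq_zero]
    exact ⟨P m, (hmul m hm).symm⟩
  let g : L →+ L := ((f.domRestrict L).codRestrict L fun x => hrange x).toAddMonoidHom
  have hginj : Function.Injective g := (injective_iff_map_eq_zero g).mpr fun x hx =>
    Subtype.ext (hzero x x.2 (congrArg Subtype.val hx))
  have hcard : (∀ m, ∃ y ∈ L, f m = f y) →
      Nat.card (Submodule.torsion ℤ_[ℓ] (M ⧸ LinearMap.range f)) = g.range.index := by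
    intro hall
    let π : L →+ Submodule.torsion ℤ_[ℓ] (M ⧸ LinearMap.range f) :=
      { toFun := fun m => ⟨Submodule.Quotient.mk m.1, (htor _).mpr ⟨m.1, m.2, rfl⟩⟩
        map_zero' := by ext; simp
        map_add' := fun a b => by ext; simp }
    have hπ : Function.Surjective π := fun x => by
      obtain ⟨m, hm, he⟩ := (htor _).mp x.2
      exact ⟨⟨m, hm⟩, Subtype.ext he⟩
    have hk : π.ker = g.range := by
      ext x
      rw [AddMonoidHom.mem_ker, AddMonoidHom.mem_range]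
      refine Iff.trans ⟨fun h => congrArg Subtype.val h, fun h => Subtype.ext h⟩ ((Submodule.Quotient.mk_eq_zero _).trans ⟨?_, ?_⟩)
      · rintro ⟨m, hm⟩
        obtain ⟨y, hy, hmy⟩ := hall m
        exact ⟨⟨y, hy⟩, Subtype.ext (hmy.symm.trans hm)⟩
      · rintro ⟨y, rfl⟩
        exact ⟨y.1, rfl⟩
    rw [← hk, AddSubgroup.index_ker, AddMonoidHom.range_eq_top.mpr hπ, AddSubgroup.card_top]
  have hL : ∀ y : M, (ℓ : ℤ_[ℓ]) • y ∈ L → y ∈ L := fun y h => smul_cancel ℓ ((map_smul Φ _ y).symm.trans h)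
  obtain ⟨hℓ, hB2⟩ | ⟨hℓ, B, hB⟩ : (ℓ = 2 ∧ ∀ m, ∃ y, f m = (ℓ : ℤ_[ℓ]) • y) ∨
      (ℓ = 3 ∧ ∃ B : Module.End ℤ_[ℓ] M, f ^ 2 = (3 : ℤ_[ℓ]) • B) := by
    rcases hcase with ⟨rfl, B, hB⟩ | ⟨rfl, B, hB⟩ | h
    · exact Or.inl ⟨rfl, fun m => ⟨B m, by rw [hB]; rfl⟩⟩
    · refine Or.inl ⟨rfl, fun m => ⟨-B m, ?_⟩⟩
      have h1 : f ^ 2 = -(2 : ℤ_[2]) • f := by
        have h0 : A * A = 1 := by rw [← sq]; exact hA
        rw [hf, neg_smul, two_smul, sq, sub_mul, mul_sub, mul_sub, h0, mul_one, one_mul, one_mul]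
        abel
      have h2 := LinearMap.congr_fun (h1.symm.trans hB) m
      simp only [neg_smul, LinearMap.neg_apply, LinearMap.smul_apply] at h2
      refine sub_eq_zero.mp (smul_cancel 2 ?_)
      rw [show (4 : ℤ_[2]) = 2 * 2 by norm_num, mul_smul] at h2
      simp only [Nat.cast_ofNat, smul_sub, smul_neg, ← h2]
      simp
    · exact Or.inr h
  · subst hℓ
    have hfL : ∀ x ∈ L, f x = -((2 : ℕ) : ℤ_[2]) • x := by
      intro x hx
      have h0 : Φ x = 0 := hx
      have h1 : x + A x = 0 := by simpa [Φ, LinearMap.sum_apply, Finset.sum_range_succ] using h0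
      rw [hf, LinearMap.sub_apply, Module.End.one_apply, eq_neg_of_add_eq_zero_right h1, Nat.cast_ofNat, neg_smul, two_smul]
      abel
    refine ⟨c, by omega, ?_⟩
    rw [hcard fun m => ?_, ← hrank, ← index_smul 2 L]
    · congr 1
      ext x
      constructor
      · rintro ⟨y, rfl⟩
        exact ⟨-y, Subtype.ext (show ((2 : ℕ) : ℤ_[2]) • -y.1 = f y.1 by rw [hfL _ y.2, neg_smul, smul_neg])⟩
      · rintro ⟨y, rfl⟩
        exact ⟨-y, Subtype.ext (show f (-y).1 = ((2 : ℕ) : ℤ_[2]) • y.1 by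
          rw [Submodule.coe_neg, map_neg, hfL _ y.2, neg_smul, neg_neg])⟩
    · obtain ⟨y, hy⟩ := hB2 m
      have hyL := hL y (hy ▸ hrange m)
      exact ⟨-y, neg_mem hyL, by rw [map_neg, hfL _ hyL, neg_smul, neg_neg, hy]⟩
  · subst hℓ
    have hfL : ∀ x ∈ L, f (f x) = -(3 : ℤ_[3]) • A x := by
      intro x hx
      have h0 : Φ x = 0 := hx
      have h1 : x + A x + A (A x) = 0 := by
        simpa [Φ, LinearMap.sum_apply, Finset.sum_range_succ, sq, Module.End.mul_apply] using h0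
      simp only [hf, LinearMap.sub_apply, Module.End.one_apply, map_sub]
      rw [eq_neg_of_add_eq_zero_right h1, neg_smul, show (3 : ℤ_[3]) = 1 + 1 + 1 by norm_num, add_smul, add_smul, one_smul]
      abel
    have hA3 : ∀ x, A (A (A x)) = x := fun x => by
      simpa [pow_succ, Module.End.mul_apply] using LinearMap.congr_fun hA x
    have hAL : ∀ x ∈ L, A (A x) ∈ L := fun x hx => by
      show Φ (A (A x)) = 0
      have hc : Φ * (A * A) = A * A * Φ := by simp [Φ, Finset.sum_range_succ, mul_add, add_mul, pow_succ, mul_assoc]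
      have := LinearMap.congr_fun hc x
      rw [Module.End.mul_apply, Module.End.mul_apply, Module.End.mul_apply, show Φ x = 0 from hx, map_zero] at this
      exact this
    have hall : ∀ m, ∃ y ∈ L, f m = f y := by
      intro m
      have h1 : f (f m) = (3 : ℤ_[3]) • B m := by
        simpa [sq, Module.End.mul_apply] using LinearMap.congr_fun hB m
      have hy : B m ∈ L := hL _ (by rw [Nat.cast_ofNat, ← h1]; exact hrange _)
      refine ⟨-A (A (B m)), neg_mem (hAL _ hy), sub_eq_zero.mp (hzero _ (sub_mem (hrange _) (hrange _)) ?_)⟩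
      rw [map_sub, h1, map_neg, map_neg, hfL _ (hAL _ hy), hA3, neg_smul, neg_neg, sub_self]
    rw [hcard hall]
    have h9 : g.range.index * g.range.index = 3 ^ c := by
      rw [← AddSubgroup.index_map_of_injective g.range hginj, ← hrank, ← index_smul 3 L]
      congr 1
      ext x
      constructor
      · rintro ⟨_, ⟨y, rfl⟩, rfl⟩
        have hAy : A y.1 ∈ L := by
          have := hAL _ (hAL _ y.2)
          rwa [hA3] at this
        refine ⟨-⟨A y.1, hAy⟩, Subtype.ext ?_⟩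
        show ((3 : ℕ) : ℤ_[3]) • -A y.1 = f (f y.1)
        rw [hfL _ y.2, neg_smul, smul_neg, Nat.cast_ofNat]
      · rintro ⟨y, rfl⟩
        refine ⟨_, ⟨⟨-A (A y.1), neg_mem (hAL _ y.2)⟩, rfl⟩, Subtype.ext ?_⟩
        show f (f (-A (A y.1))) = ((3 : ℕ) : ℤ_[3]) • y.1
        rw [map_neg, map_neg, hfL _ (hAL _ y.2), hA3, neg_smul, neg_neg, Nat.cast_ofNat]
    obtain ⟨r, -, hr⟩ := (Nat.dvd_prime_pow Nat.prime_three).mp (Dvd.intro _ h9)
    rw [hr, ← pow_add] at h9
    have := Nat.pow_right_injective (le_refl 2 |>.trans (by norm_num : 2 ≤ 3)) h9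
    exact ⟨r, by omega, hr⟩

end Groth.Agent.SSRedLib
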