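import Mathlib.LinearAlgebra.Matrix.Charpoly.Coeff
import Mathlib.Algebra.Polynomial.Expand
import Mathlib.NumberTheory.Padics.PadicIntegers

/-!
# Characteristic polynomial of a square and of a multiple
-/

set_option autoImplicit false

open Polynomial Matrix

namespace Groth.Agent.SSRedLib

variable {R : Type*} [CommRing R] {m : Type*} [Fintype m] [DecidableEq m]

theorem expand_charpoly_sq (N : Matrix m m R) :
    expand R 2 (N * N).charpoly = (-1) ^ Fintype.card m * (N.charpoly * N.charpoly.comp (-X)) := by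
  let E : R[X] →+* R[X] := (expand R 2).toRingHom
  let Cn : Matrix m m R[X] := N.map C
  have h1 : (charmatrix (N * N)).map E = (Matrix.scalar m (X : R[X]) - Cn) * (Matrix.scalar m (X : R[X]) + Cn) := by
    have hmap : (charmatrix (N * N)).map E = Matrix.scalar m ((X : R[X]) * X) - Cn * Cn := by
      rw [← RingHom.mapMatrix_apply]
      simp only [charmatrix, map_sub, RingHom.mapMatrix_apply]
      congr 1
      · ext i j
        by_cases h : i = j <;> simp [E, h, sq]
      · ext i j
        simp [E, Cn, Matrix.mul_apply]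
    rw [hmap, map_mul, sub_mul, mul_add, mul_add, (Matrix.scalar_commute _ (fun r => Commute.all _ _) Cn).eq]
    abel
  have h2 : (Matrix.scalar m (X : R[X]) + Cn) = -((charmatrix N).map (compRingHom (-X : R[X]))) := by
    ext i j
    by_cases h : i = j <;> simp [charmatrix, Cn, h, sub_comp, add_comm]
  have h3 : N.charpoly.comp (-X) = ((charmatrix N).map (compRingHom (-X : R[X]))).det :=
    RingHom.map_det (compRingHom (-X : R[X])) _
  show E (charmatrix (N * N)).det = _
  rw [RingHom.map_det, RingHom.mapMatrix_apply, h1, det_mul, h2, det_neg, ← h3]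
  show N.charpoly * _ = _
  ring

theorem coeff_charpoly_smul [IsDomain R] {n : R} (hn : n ≠ 0) (B : Matrix m m R) {i : ℕ}
    (hi : i ≤ Fintype.card m) : n ^ (Fintype.card m - i) ∣ (n • B).charpoly.coeff i := by
  have h : (n • B).charpoly.comp (C n * X) = C (n ^ Fintype.card m) * B.charpoly := by
    show compRingHom (C n * X) (charmatrix (n • B)).det = _
    rw [RingHom.map_det, RingHom.mapMatrix_apply]
    have : (charmatrix (n • B)).map (compRingHom (C n * X)) = C n • charmatrix B := by
      ext i j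
      by_cases h : i = j <;> simp [charmatrix, h, mul_sub]
    rw [this, det_smul, C_pow]
    rfl
  have h2 := congrArg (fun p : R[X] => p.coeff i) h
  simp only [comp_C_mul_X_coeff, coeff_C_mul] at h2
  refine ⟨B.charpoly.coeff i, mul_right_cancel₀ (pow_ne_zero i hn) ?_⟩
  rw [h2, mul_right_comm, ← pow_add, Nat.sub_add_cancel hi]

/-- The polynomial whose roots are the squares of `r - 1`, `r` a root of `f`. -/
noncomputable def sqShift (f : ℤ[X]) : ℤ[X] :=
  contract 2 ((-1) ^ f.natDegree * (f.comp (X + 1) * (f.comp (X + 1)).comp (-X)))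

theorem expand_sqShift (f : ℤ[X]) :
    expand ℤ 2 (sqShift f) = (-1) ^ f.natDegree * (f.comp (X + 1) * (f.comp (X + 1)).comp (-X)) := by
  unfold sqShift
  generalize hP : (-1 : ℤ[X]) ^ f.natDegree * (f.comp (X + 1) * (f.comp (X + 1)).comp (-X)) = P
  have hPs : P.comp (-X) = P := by
    rw [← hP]
    simp only [mul_comp, pow_comp, neg_comp, one_comp, comp_assoc, X_comp, add_comp, neg_neg]
    ring
  ext k
  rw [coeff_expand two_pos]
  split
  · rename_i h
    rw [coeff_contract two_ne_zero, Nat.div_mul_cancel h]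
  · rename_i h
    have h1 := congrArg (fun p : ℤ[X] => p.coeff k) hPs
    simp only [show (-X : ℤ[X]) = C (-1) * X by simp, comp_C_mul_X_coeff] at h1
    rw [(Nat.not_even_iff_odd.mp fun he => h he.two_dvd).neg_one_pow] at h1
    omega

theorem coeff_sqShift_natDegree {f : ℤ[X]} (hf : f.Monic) :
    (sqShift f).coeff f.natDegree = 1 ∧ (sqShift f).natDegree ≤ f.natDegree := by
  have hh : (f.comp (X + 1)).Monic := by simpa using hf.comp_X_add_C 1
  have hd : (f.comp (X + 1)).natDegree = f.natDegree := by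
    rw [natDegree_comp, show (X + 1 : ℤ[X]) = X + C 1 by simp, natDegree_X_add_C, mul_one]
  have hd2 : ((f.comp (X + 1)).comp (-X)).natDegree = f.natDegree := by
    rw [natDegree_comp, hd, natDegree_neg, natDegree_X, mul_one]
  let P : ℤ[X] := (-1) ^ f.natDegree * (f.comp (X + 1) * (f.comp (X + 1)).comp (-X))
  have hP : P.natDegree ≤ f.natDegree * 2 := by
    refine natDegree_mul_le.trans ?_
    rw [show ((-1 : ℤ[X]) ^ f.natDegree) = C ((-1) ^ f.natDegree) by simp, natDegree_C, zero_add]
    refine natDegree_mul_le.trans ?_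
    rw [hd, hd2]
    omega
  refine ⟨?_, natDegree_le_iff_coeff_eq_zero.mpr fun k hk => ?_⟩
  · unfold sqShift
    rw [coeff_contract two_ne_zero, show ((-1 : ℤ[X]) ^ f.natDegree) = C ((-1) ^ f.natDegree) by simp, coeff_C_mul,
      show f.natDegree * 2 = (f.comp (X + 1)).natDegree + ((f.comp (X + 1)).comp (-X)).natDegree by omega,
      coeff_mul_degree_add_degree, hh.leadingCoeff, one_mul, comp_neg_X_leadingCoeff_eq, hd, hh.leadingCoeff, mul_one,
      ← mul_pow]
    simp
  · unfold sqShift
    rw [coeff_contract two_ne_zero]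
    exact coeff_eq_zero_of_natDegree_lt (lt_of_le_of_lt hP (by omega))

theorem pow_dvd_coeff_sqShift {g : ℕ} {f : ℤ[X]} {n : ℕ} (hn : 0 < n)
    (hA : ∀ (ℓ : ℕ) [Fact ℓ.Prime], ℓ ∣ n → ∃ A : Matrix (Fin g) (Fin g) ℤ_[ℓ],
      A.charpoly = f.map (Int.castRingHom ℤ_[ℓ]) ∧
        ∃ B : Matrix (Fin g) (Fin g) ℤ_[ℓ], (A - 1) ^ 2 = (n : ℤ_[ℓ]) • B)
    (hf : f.Monic) {i : ℕ} (hi : i ≤ f.natDegree) : (n : ℤ) ^ (f.natDegree - i) ∣ (sqShift f).coeff i := by
  rw [← Int.natAbs_dvd_natAbs, Nat.dvd_iff_prime_pow_dvd_dvd]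
  intro p k hp hpk
  rw [Int.natAbs_pow, Int.natAbs_natCast] at hpk
  rcases Nat.eq_zero_or_pos k with rfl | hk
  · simp
  haveI := Fact.mk hp
  have hpn : p ∣ n := hp.dvd_of_dvd_pow ((dvd_pow_self p hk.ne').trans hpk)
  obtain ⟨A, hA1, B, hB⟩ := hA p hpn
  have hdeg : f.natDegree = g := by
    have := A.charpoly_natDegree_eq_dim
    rw [hA1, hf.natDegree_map, Fintype.card_fin] at this
    exact this
  have hN : (A - 1).charpoly = (f.comp (X + 1)).map (Int.castRingHom ℤ_[p]) := by
    rw [show (1 : Matrix (Fin g) (Fin g) ℤ_[p]) = Matrix.scalar (Fin g) 1 by simp, Matrix.charpoly_sub_scalar, hA1,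
      map_comp]
    simp
  have hG : (sqShift f).map (Int.castRingHom ℤ_[p]) = ((n : ℤ_[p]) • B).charpoly := by
    refine expand_injective two_pos ?_
    rw [← hB, sq, expand_charpoly_sq, hN, ← map_expand, expand_sqShift, Fintype.card_fin, ← hdeg]
    simp [Polynomial.map_comp]
  have h1 := coeff_charpoly_smul (n := (n : ℤ_[p])) (Nat.cast_ne_zero.mpr hn.ne') B (i := i)
    (by rw [Fintype.card_fin, ← hdeg]; exact hi)
  rw [← hG, coeff_map, Fintype.card_fin, ← hdeg, Int.coe_castRingHom] at h1
  have h2 : ((p : ℤ_[p]) ^ k) ∣ ((sqShift f).coeff i : ℤ_[p]) :=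
    (dvd_trans (by exact_mod_cast Nat.cast_dvd_cast (α := ℤ_[p]) hpk) h1)
  rw [PadicInt.pow_p_dvd_int_iff] at h2
  exact Int.natCast_dvd.mp (by exact_mod_cast h2)

end Groth.Agent.SSRedLib
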